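import Mathlib
import Groth.Prelude.Def_LCI2
import Groth.Prelude.Def_RegImm
import Groth.Agent.Lib.Helper3.NLLci
import Groth.Agent.Lib.Helper8.Koszul6
import Groth.Agent.S2189
import Groth.Agent.Lib.Helper5.NLFlatB.Main
import Groth.Agent.Lib.Helper5.TorAmp.PolyTor
import Groth.Agent.Lib.Helper5.TorAmp.TorDim
import Groth.Agent.Lib.Helper5.TorAmp.Tri

/-! helper5: converse direction "NL has tor amplitude in `[-1, 0]` implies lci" over a noetherian
base with finite tor dimension (via Vasconcelos' theorem S2189). -/

set_option autoImplicit false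
set_option maxHeartbeats 1000000
set_option synthInstance.maxHeartbeats 200000
set_option linter.unusedVariables false
set_option linter.unusedSectionVars false
set_option linter.style.haveILetI false

universe u
open CategoryTheory CategoryTheory.Limits Pretriangulated DerivedCategory HomologicalComplex Algebra
attribute [local instance] HasDerivedCategory.standard

namespace Groth.Agent.Lib.Helper5.NLConv

open Groth.Agent.Helper5.TorAmp Groth.Agent.Helper3.NLDbl

section PD

variable {R : Type u} [CommRing R]

/-- the triangle of a surjection and its kernel -/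
theorem ker_triangle {M P : Type u} [AddCommGroup M] [Module R M] [AddCommGroup P] [Module R P]
    (f : P →ₗ[R] M) (hf : Function.Surjective f) :
    ∃ T : Triangle (Dual.D R), T ∈ distTriang _ ∧
      T.obj₁ = (singleFunctor (ModuleCat.{u} R) 0).obj (ModuleCat.of R (LinearMap.ker f)) ∧
      T.obj₂ = (singleFunctor (ModuleCat.{u} R) 0).obj (ModuleCat.of R P) ∧
      T.obj₃ = (singleFunctor (ModuleCat.{u} R) 0).obj (ModuleCat.of R M) :=
  ⟨_, (LinearMap.shortExact_shortComplexKer hf).singleTriangle_distinguished, rfl, rfl, rfl⟩

variable [IsNoetherianRing R]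

/-- a finite module over a noetherian ring with tor amplitude in `[-e, 0]` has projective
dimension `≤ e` -/
theorem pdLT_of_torAmp : ∀ (e : ℕ) (M : Type u) [AddCommGroup M] [Module R M] [Module.Finite R M],
    DRing.HasTorAmplitudeIn R (-(e : ℤ)) 0 (Dual.inD R M) →
      HasProjectiveDimensionLT (ModuleCat.of R M) (e + 1) := by
  intro e
  induction e with
  | zero =>
    intro M _ _ _ h
    have hfl : Module.Flat R (ModuleCat.of R M) :=
      flat_of_hasTorAmplitudeIn_single (ModuleCat.of R M) (by simpa using h)
    haveI : Module.Flat R M := hfl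
    haveI : Module.FinitePresentation R M := Module.finitePresentation_of_finite R M
    haveI : Module.Projective R M := Module.Flat.projective_of_finitePresentation
    haveI : Projective (ModuleCat.of R M) := (IsProjective.iff_projective M).1 inferInstance
    infer_instance
  | succ e ih =>
    intro M _ _ _ h
    obtain ⟨P, _, _, _, _, f, surjf⟩ := Module.exists_finite_presentation R M
    obtain ⟨T, hT, h1, h2, h3⟩ := ker_triangle f surjf
    have hS := LinearMap.shortExact_shortComplexKer surjf
    haveI : Module.Projective R P := inferInstance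
    have proj : Projective f.shortComplexKer.X₂ :=
      (IsProjective.iff_projective P).1 inferInstance
    have hF : DRing.HasTorAmplitudeIn R (-((e + 1 : ℕ) : ℤ) + 1) (0 + 1) T.obj₂ := by
      rw [h2]
      haveI : Module.Flat R (ModuleCat.of R P) := (inferInstance : Module.Flat R P)
      exact hasTorAmplitudeIn_mono (hasTorAmplitudeIn_single_of_flat (ModuleCat.of R P))
        (by push_cast; omega) (by omega)
    have hM : DRing.HasTorAmplitudeIn R (-((e + 1 : ℕ) : ℤ)) 0 T.obj₃ := by
      rw [h3]; exact h
    have hZ := (hasTorAmplitudeIn_of_distTriang _ _ T hT).2.2 hF hM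
    rw [h1] at hZ
    have hZ' : DRing.HasTorAmplitudeIn R (-(e : ℤ)) 0 (Dual.inD R (LinearMap.ker f)) := by
      have := hasTorAmplitudeIn_trim (b' := 0) hZ
      exact hasTorAmplitudeIn_mono this (by push_cast; omega) le_rfl
    haveI : Module.Finite R (LinearMap.ker f) := inferInstance
    have h1' := ih (LinearMap.ker f) hZ'
    exact (hS.hasProjectiveDimensionLT_X₃_iff e proj).2 h1'

end PD

section Cot

variable {A B : Type u} [CommRing A] [CommRing B] [Algebra A B] {n : ℕ}
  (G : Generators A B (Fin n))

/-- comparison with the canonical presentation -/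
noncomputable def nlIso : DRing.toD (nlCx G.toExtension) ≅ LCI.NL A B :=
  { hom := DerivedCategory.Q.map (nlMap (G.defaultHom (Generators.self A B)).toExtensionHom)
    inv := DerivedCategory.Q.map (nlMap (Extension.defaultHom A B G.toExtension))
    hom_inv_id := Q_nlMap_comp_eq_id _ _
    inv_hom_id := Q_nlMap_comp_eq_id _ _ }

theorem flat_cotangent (hT : DRing.HasTorAmplitudeIn B (-1) 0 (LCI.NL A B)) :
    Module.Flat B G.toExtension.Cotangent := by
  have hvan : DRing.VanishesOutside (nlCx G.toExtension) (-1) 0 := by
    intro i hi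
    exact isZero_double_X _ rel i (by omega) (by omega)
  have h0 : Module.Flat B ((nlCx G.toExtension).X 0) := by
    haveI : Module.Free B G.toExtension.CotangentSpace :=
      Module.Free.of_basis G.cotangentSpaceBasis
    haveI : Module.Flat B (ModuleCat.of B G.toExtension.CotangentSpace) :=
      (inferInstance : Module.Flat B G.toExtension.CotangentSpace)
    exact Module.Flat.of_linearEquiv
      (doubleXIso₁ (ModuleCat.ofHom G.toExtension.cotangentComplex) rel ne).toLinearEquiv
  have hT' : DRing.HasTorAmplitudeIn B (-1) 0 (DRing.toD (nlCx G.toExtension)) :=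
    hasTorAmplitudeIn_of_iso (nlIso G).symm hT
  have h1 := Groth.Agent.Lib.Helper5.NLFlatB.flat_X_neg_one (nlCx G.toExtension) hvan h0 hT'
  haveI : Module.Flat B ((nlCx G.toExtension).X (-1)) := h1
  exact Module.Flat.of_linearEquiv
    (doubleXIso₀ (ModuleCat.ofHom G.toExtension.cotangentComplex) rel).symm.toLinearEquiv

theorem projective_ker_cotangent (E : Extension.{u} A B) (h : Module.Projective B E.Cotangent) :
    Module.Projective (E.Ring ⧸ E.ker) E.ker.Cotangent := by
  let e₁ : (E.Ring ⧸ E.ker) ≃+* B := RingHom.quotientKerEquivOfSurjective E.algebraMap_surjective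
  letI i1 : RingHomInvPair (e₁ : (E.Ring ⧸ E.ker) →+* B) (e₁.symm : B →+* (E.Ring ⧸ E.ker)) :=
    RingHomInvPair.of_ringEquiv e₁
  letI i2 : RingHomInvPair (e₁.symm : B →+* (E.Ring ⧸ E.ker)) (e₁ : (E.Ring ⧸ E.ker) →+* B) :=
    RingHomInvPair.of_ringEquiv e₁.symm
  let e₂ : E.ker.Cotangent ≃ₛₗ[(e₁ : (E.Ring ⧸ E.ker) →+* B)] E.Cotangent :=
    { toFun := Extension.Cotangent.of
      invFun := Extension.Cotangent.val
      left_inv := fun _ => rfl
      right_inv := fun _ => rfl
      map_add' := fun _ _ => rfl
      map_smul' := by
        intro r x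
        obtain ⟨p, rfl⟩ := Ideal.Quotient.mk_surjective r
        apply Extension.Cotangent.ext
        have h1 : (e₁ : (E.Ring ⧸ E.ker) →+* B) (Ideal.Quotient.mk _ p) = algebraMap E.Ring B p :=
          RingHom.quotientKerEquivOfSurjective_apply_mk E.algebraMap_surjective p
        have h2 : (Ideal.Quotient.mk E.ker p) • x = p • x := by
          rw [← Ideal.Quotient.algebraMap_eq, algebraMap_smul]
        rw [h1, algebraMap_smul, Extension.Cotangent.val_smul']
        exact h2 }
  exact Module.Projective.of_equiv e₂.symm

end Cot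

section Main

variable {A B : Type u} [CommRing A] [CommRing B] [Algebra A B]

/-- the two `A`-module structures on `B` agree -/
noncomputable def resLin {n : ℕ} (G : Generators A B (Fin n)) :
    ↑((ModuleCat.restrictScalars.{u} (MvPolynomial.C : A →+* MvPolynomial (Fin n) A)).obj
      (ModuleCat.of G.toExtension.Ring B)) ≃ₗ[A] B :=
  AddEquiv.toLinearEquiv
    (M := ↑((ModuleCat.restrictScalars.{u} (MvPolynomial.C : A →+* MvPolynomial (Fin n) A)).obj
      (ModuleCat.of G.toExtension.Ring B))) (M₂ := B) (by rfl)
    (fun a x => by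
      have h1 : ∀ y : B, (algebraMap A G.toExtension.Ring a) • y = a • y :=
        fun y => algebraMap_smul G.toExtension.Ring a y
      exact h1 x)

theorem kr_of_gens [IsNoetherianRing A] {n : ℕ} (G : Generators A B (Fin n))
    (hB : DRing.HasFiniteTorDim A B)
    (hT : DRing.HasTorAmplitudeIn B (-1) 0 (LCI.NL A B)) :
    LCI.IsKoszulRegularIdeal G.toExtension.ker := by
  haveI hNP : IsNoetherianRing G.toExtension.Ring :=
    (inferInstance : IsNoetherianRing (MvPolynomial (Fin n) A))
  haveI hNB : IsNoetherianRing B :=
    isNoetherianRing_of_surjective G.toExtension.Ring B (algebraMap G.toExtension.Ring B)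
      G.toExtension.algebraMap_surjective
  have hfg : G.toExtension.ker.FG := IsNoetherian.noetherian G.toExtension.ker
  haveI hF : Module.Finite B G.toExtension.Cotangent :=
    Groth.Agent.Helper3.NLLci.finite_cotangent G.toExtension hfg
  haveI hFl : Module.Flat B G.toExtension.Cotangent := flat_cotangent G hT
  haveI : Module.FinitePresentation B G.toExtension.Cotangent :=
    Module.finitePresentation_of_finite B _
  have hP : Module.Projective B G.toExtension.Cotangent :=
    Module.Flat.projective_of_finitePresentation
  haveI hP' : Module.Projective (G.toExtension.Ring ⧸ G.toExtension.ker)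
      G.toExtension.ker.Cotangent := projective_ker_cotangent G.toExtension hP
  -- projective dimension
  obtain ⟨d, hd⟩ := hB
  have h1 : DRing.HasTorAmplitudeIn A (-(d : ℤ)) 0 (Dual.inD A B) := ((s6946 B d).1).1 hd
  have h2 := Groth.Agent.Helper5.PolyTor.torAmp_mv n A d (ModuleCat.of G.toExtension.Ring B)
    (hasTorAmplitudeIn_of_iso
      ((singleFunctor (ModuleCat.{u} A) 0).mapIso (resLin G).toModuleIso).symm h1)
  haveI : Module.Finite G.toExtension.Ring B :=
    Module.Finite.of_surjective (Algebra.linearMap G.toExtension.Ring B)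
      G.toExtension.algebraMap_surjective
  haveI hpdB : HasProjectiveDimensionLT (ModuleCat.of G.toExtension.Ring B) (d + n + 1) :=
    pdLT_of_torAmp (R := G.toExtension.Ring) (d + n) B h2
  have hS := LinearMap.shortExact_shortComplexKer
    (f := Algebra.linearMap G.toExtension.Ring B) G.toExtension.algebraMap_surjective
  haveI hX3 : HasProjectiveDimensionLT
      (Algebra.linearMap G.toExtension.Ring B).shortComplexKer.X₃ (d + n + 1 + 1) :=
    hasProjectiveDimensionLT_of_ge (ModuleCat.of G.toExtension.Ring B) (d + n + 1) (d + n + 1 + 1)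
      (by omega)
  haveI : Module.Projective G.toExtension.Ring G.toExtension.Ring := inferInstance
  haveI hproj : Projective (ModuleCat.of G.toExtension.Ring G.toExtension.Ring) :=
    (IsProjective.iff_projective G.toExtension.Ring).1 inferInstance
  haveI hX2 : HasProjectiveDimensionLT
      (Algebra.linearMap G.toExtension.Ring B).shortComplexKer.X₂ (d + n + 1) :=
    hasProjectiveDimensionLT_of_ge (ModuleCat.of G.toExtension.Ring G.toExtension.Ring) 1
      (d + n + 1) (by omega)
  have hX1 := hS.hasProjectiveDimensionLT_X₁ (d + n + 1) hX2 hX3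
  have hk : LinearMap.ker (Algebra.linearMap G.toExtension.Ring B) = G.toExtension.ker := by
    ext x
    simp [Extension.ker, RingHom.mem_ker]
  have hpdJ : HasProjectiveDimensionLT (ModuleCat.of G.toExtension.Ring G.toExtension.ker)
      (d + n + 1) :=
    hasProjectiveDimensionLT_of_iso (LinearEquiv.ofEq _ _ hk).toModuleIso (d + n + 1)
  intro 𝔭 h𝔭
  haveI := 𝔭.isPrime
  obtain ⟨g, hg, rs, hreg, hspan⟩ :=
    Groth.Agent.S2189.result G.toExtension.ker (d + n + 1) hpdJ 𝔭.asIdeal h𝔭
  exact ⟨g, hg, rs,
    (Groth.Agent.Helper8.KoszulLib.koszul_regular rs hreg.toIsWeaklyRegular).1, hspan.symm⟩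

/-- **Noetherian case**: finite type, finite tor dimension, `NL` of tor amplitude `[-1, 0]`
implies lci -/
theorem isLCI_of_torAmp_noeth [IsNoetherianRing A] [Algebra.FiniteType A B]
    (hB : DRing.HasFiniteTorDim A B)
    (hT : DRing.HasTorAmplitudeIn B (-1) 0 (LCI.NL A B)) : LCI.IsLCI A B := by
  obtain ⟨n, φ, hφ⟩ := Algebra.FiniteType.iff_quotient_mvPolynomial''.1
    (inferInstance : Algebra.FiniteType A B)
  have hae : (MvPolynomial.aeval (fun i => φ (MvPolynomial.X i)) :
      MvPolynomial (Fin n) A →ₐ[A] B) = φ := by
    apply MvPolynomial.algHom_ext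
    intro i
    simp
  let G : Generators A B (Fin n) :=
    Generators.ofSurjective (fun i => φ (MvPolynomial.X i)) (by rw [hae]; exact hφ)
  have hker : G.toExtension.ker = RingHom.ker φ.toRingHom := by
    ext p
    simp only [RingHom.mem_ker]
    have h1 : algebraMap G.toExtension.Ring B p = φ p := by
      have h2 := Generators.algebraMap_apply G p
      rw [show G.val = fun i => φ (MvPolynomial.X i) from rfl, hae] at h2
      exact h2
    rw [h1]
    rfl
  have h := kr_of_gens G hB hT
  rw [hker] at h
  exact ⟨inferInstance, n, φ, hφ, h⟩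

end Main

end Groth.Agent.Lib.Helper5.NLConv
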