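import Mathlib
import Groth.Agent.Lib.Helper5.NLConv.Noeth
import Groth.Agent.Lib.Helper2.Synt.BridgeMp
import Groth.Agent.Lib.Helper2.Synt.KosField

/-! helper5: "NL has tor amplitude in `[-1, 0]` implies lci" for flat finitely presented ring maps,
by reduction to the fibres. -/

set_option autoImplicit false
set_option maxHeartbeats 1000000
set_option synthInstance.maxHeartbeats 200000
set_option linter.unusedVariables false
set_option linter.unusedSectionVars false
set_option linter.style.haveILetI false

universe u
open CategoryTheory CategoryTheory.Limits Pretriangulated DerivedCategory HomologicalComplex Algebra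
open TensorProduct
attribute [local instance] HasDerivedCategory.standard

namespace Groth.Agent.Lib.Helper5.NLConv

open Groth.Agent.Helper5.TorAmp Groth.Agent.Lib.Helper5.NLFlatB

section BC

variable (A B A' B' : Type u) [CommRing A] [CommRing B] [CommRing A'] [CommRing B']
  [Algebra A B] [Algebra A' B'] [Algebra A A'] [Algebra B B'] [Algebra A B']
  [IsScalarTower A A' B'] [IsScalarTower A B B']

/-- base change of the tor amplitude of `NL` along a cocartesian square with `B` flat over `A` -/
theorem torAmp_NL_baseChange [Algebra.IsPushout A A' B B'] [Module.Flat A B]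
    (hT : DRing.HasTorAmplitudeIn B (-1) 0 (LCI.NL A B)) :
    DRing.HasTorAmplitudeIn B' (-1) 0 (LCI.NL A' B') := by
  have hC := vanishesOutside_NLcx A B
  have h0 := flat_NLcx_zero A B
  have h1 := flat_X_neg_one (LCI.NLcx A B) hC h0 hT
  haveI : Module.Flat B ((double (ModuleCat.ofHom
      (Generators.self A B).toExtension.cotangentComplex) rel01).X (-1)) := h1
  haveI hc : Module.Flat B (Generators.self A B).toExtension.Cotangent :=
    Module.Flat.of_linearEquiv
      (doubleXIso₀ (ModuleCat.ofHom (Generators.self A B).toExtension.cotangentComplex)
        rel01).symm.toLinearEquiv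
  haveI hs : Module.Flat B (Generators.self A B).toExtension.CotangentSpace := by
    haveI : Module.Free B (Generators.self A B).toExtension.CotangentSpace :=
      Module.Free.of_basis (Generators.self A B).cotangentSpaceBasis
    infer_instance
  haveI := quasiIso_bcMapSelf A B A' B'
  have e3 : DRing.toD (NLCx.bcCx (Generators.self A B).toExtension B') ≅
      DRing.toD (NLCx.cx (Generators.self A' B').toExtension) :=
    asIso (DerivedCategory.Q.map (NLCx.bcMapSelf A B A' B'))
  refine ⟨NLCx.bcCx (Generators.self A B).toExtension B', ?_, ?_, ⟨e3⟩⟩
  · intro i hi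
    exact isZero_double_X _ _ i (by omega) (by omega)
  · intro i
    by_cases hi0 : i = 0
    · subst hi0
      haveI : Module.Flat B' (ModuleCat.of B'
          (B' ⊗[B] (Generators.self A B).toExtension.CotangentSpace)) :=
        (inferInstance : Module.Flat B'
          (B' ⊗[B] (Generators.self A B).toExtension.CotangentSpace))
      exact Module.Flat.of_linearEquiv
        (doubleXIso₁ (ModuleCat.ofHom
          ((Generators.self A B).toExtension.cotangentComplex.baseChange B')) rel01
          (by decide)).toLinearEquiv
    · by_cases hi1 : i = -1
      · subst hi1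
        haveI : Module.Flat B' (ModuleCat.of B'
            (B' ⊗[B] (Generators.self A B).toExtension.Cotangent)) :=
          (inferInstance : Module.Flat B'
            (B' ⊗[B] (Generators.self A B).toExtension.Cotangent))
        exact Module.Flat.of_linearEquiv
          (doubleXIso₀ (ModuleCat.ofHom
            ((Generators.self A B).toExtension.cotangentComplex.baseChange B'))
            rel01).toLinearEquiv
      · haveI : Subsingleton ((NLCx.bcCx (Generators.self A B).toExtension B').X i) :=
          ModuleCat.subsingleton_of_isZero (isZero_double_X _ _ i hi1 hi0)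
        infer_instance

end BC

section Fibre

variable {A B : Type u} [CommRing A] [CommRing B] [Algebra A B]

attribute [local instance] Algebra.TensorProduct.rightAlgebra

theorem torAmp_fibre [Module.Flat A B] (p : Ideal A) [p.IsPrime]
    (hT : DRing.HasTorAmplitudeIn B (-1) 0 (LCI.NL A B)) :
    DRing.HasTorAmplitudeIn (p.Fiber B) (-1) 0 (LCI.NL p.ResidueField (p.Fiber B)) :=
  torAmp_NL_baseChange A B p.ResidueField (p.Fiber B) hT

/-- **flat finitely presented case** -/
theorem isLCI_of_torAmp_flat [Module.Flat A B] [Algebra.FinitePresentation A B]
    (hT : DRing.HasTorAmplitudeIn B (-1) 0 (LCI.NL A B)) : LCI.IsLCI A B := by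
  have hS : Synt.IsSyntomic A B := by
    refine ⟨inferInstance, inferInstance, fun p => ?_⟩
    apply Groth.Agent.Helper2.Synt.isLCIOver_of_isLCI
    haveI : Algebra.FiniteType p.asIdeal.ResidueField (p.asIdeal.Fiber B) := inferInstance
    refine isLCI_of_torAmp_noeth ⟨0, ?_⟩ (torAmp_fibre p.asIdeal hT)
    exact ((s6946 (R := p.asIdeal.ResidueField) (p.asIdeal.Fiber B) 0).2).2 inferInstance
  exact ((Groth.Agent.Helper2.Synt.isSyntomic_iff_flat_and_isLCI A B).1 hS).2

end Fibre

end Groth.Agent.Lib.Helper5.NLConv
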